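import Cfsg.Agent.Lib.Holt.AFa
import Cfsg.Agent.Lib.Holt.AFb

/-! HOLT package AF (see blueprint/HOLT.md): parts a and b -/
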