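import Mathlib
import Cfsg.Agent.Base
import Cfsg.Agent.Lib.Holt.BF2
import Cfsg.Agent.Lib.Holt.Cova
import Cfsg.Agent.Lib.Holt.Covb

/-! HOLT package Cov (see blueprint/HOLT.md): `IsBen.cover` is in `Covb`, `Full.cover` in `Cova`. -/
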