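import Mathlib
import Cfsg.Agent.Base
import Cfsg.Agent.Lib.Holt.Defs2
import Cfsg.Agent.Lib.Holt.T4
import Cfsg.Agent.Lib.Holt.M0
import Cfsg.Agent.Lib.Holt.N
import Cfsg.Agent.Lib.Holt.AF
import Cfsg.Agent.Lib.Holt.M1a
import Cfsg.Agent.Lib.Holt.M1b

/-! HOLT package M1: the union of the two halves M1a and M1b -/
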